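import Groth.Agent.Lib.Cube.FibreGen
import Groth.Agent.Lib.TensorMod.LocIso

/-!
# Surjective base change to a fibre for modules free near the fibre
-/

set_option autoImplicit false
set_option linter.style.haveILetI false

universe u

open CategoryTheory CategoryTheory.Limits AlgebraicGeometry Opposite TopologicalSpace
open Groth.Agent.Lib Groth.Agent.Lib.TensorMod Groth.Agent.Lib.TensorMod.Basic
open Groth.Agent.Lib.TensorMod.Free Groth.Agent.Lib.TensorMod.Gen Groth.Agent.Lib.TensorMod.LocIso
open Groth.Agent.Lib.TensorMod.Pullback Groth.Agent.Lib.TensorMod.Dual Groth.Agent.Lib.TensorMod.HomGlue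

namespace Groth.Agent.H54.Seesaw.FreeEpi

variable {X S S' X' : Scheme.{u}}

/-- The tautological section generates. -/
theorem isGen_genSec (U : X.Opens) : IsGen (freeOn U) U (genSec U) := fun V hV => by
  have hb := bijective_app_of_isIso (isIso_app_of_isIso_restrict isIso_restrict_toStructure hV)
  have h1 : ((toStructure U).app V) ∘ (fun a : Γ(X, V) => a • rs (freeOn U) hV (genSec U)) =
      fun a : Γ(X, V) => a • rs (Coh.structureModule X) hV (one X U) := funext fun a => by
    show (toStructure U).app V (a • rs (freeOn U) hV (genSec U)) = _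
    rw [Scheme.Modules.Hom.app_smul, ← rs_app, toStructure_gen]
  have h2 : Function.Bijective ((toStructure U).app V ∘ fun a : Γ(X, V) => a • rs (freeOn U) hV (genSec U)) :=
    h1 ▸ (Ample.GenLocus.isGen_one U) V hV
  exact (Function.Bijective.of_comp_iff' hb _).1 h2

variable (f : X ⟶ S) (g : S' ⟶ S) (f' : X' ⟶ S') (g' : X' ⟶ X) (w : g' ≫ f = f' ≫ g)

/-- Naturality of the base change map. -/
theorem bc0_natural {F G : X.Modules} (φ : F ⟶ G) :
    (pb g).map ((pf f).map φ) ≫ CohBC.bc0 f g f' g' w G =
      CohBC.bc0 f g f' g' w F ≫ (pf f').map ((pb g').map φ) := by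
  unfold CohBC.bc0
  rw [← Adjunction.homEquiv_naturality_left_symm, ← Adjunction.homEquiv_naturality_right_symm]
  congr 1
  unfold CohBC.bc0Adj
  rw [← Functor.map_comp_assoc]
  erw [((pbAdj g').unit.naturality φ)]
  rw [Functor.map_comp_assoc]
  simp only [Category.assoc]
  congr 1
  let θ := Scheme.Modules.pushforwardComp g' f ≪≫ Scheme.Modules.pushforwardCongr w ≪≫
    (Scheme.Modules.pushforwardComp f' g).symm
  have hθ := θ.hom.naturality ((pb g').map φ)
  simp only [θ, Iso.trans_hom, Iso.symm_hom, NatTrans.comp_app, Category.assoc] at hθ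
  exact hθ

/-- A module free over the preimage of an open containing the image of a point scheme has surjective
base change to it. -/
theorem epi_bc0_of_free (L : X.Modules) (hS : ∀ U : S'.Opens, U = ⊥ ∨ U = ⊤)
    (hp : Function.Surjective f'.appTop.hom) {W : S.Opens} (hW : g ⁻¹ᵁ W = ⊤) {n : ℕ}
    (i : L.restrict (f ⁻¹ᵁ W).ι ≅ FlatMod.freeMod _ n) :
    Epi (CohBC.bc0 f g f' g' w L) := by
  let U := f ⁻¹ᵁ W
  obtain ⟨φ, hφ⟩ := exists_map_isIso_restrict i
  have hsum : Epi (CohBC.bc0 f g f' g' w (∐ fun _ : Fin n => freeOn U)) := by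
    constructor
    intro Z a b hab
    haveI hA : (pb g').Additive := (pbAdj g').left_adjoint_additive
    let M : Fin n → X.Modules := fun _ => freeOn U
    let π : ∀ j, (∐ M) ⟶ M j := fun j =>
      Sigma.desc fun k => if e : k = j then eqToHom (congrArg M e) else 0
    have hid : ∑ j, π j ≫ Sigma.ι M j = 𝟙 (∐ M) := by
      refine Sigma.hom_ext _ _ fun k => ?_
      rw [Preadditive.comp_sum, Finset.sum_eq_single k]
      · simp [π]
      · intro j _ hj
        simp [π, Ne.symm hj]
      · simp
    have hj : ∀ j, (pf f').map ((pb g').map (Sigma.ι M j)) ≫ a = (pf f').map ((pb g').map (Sigma.ι M j)) ≫ b := by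
      intro j
      haveI : Epi (CohBC.bc0 f g f' g' w (M j)) :=
        Cube.FibreGen.epi_bc0_of_gen f g f' g' w (M j) hS hp hW (genSec U) (isGen_genSec U)
      rw [← cancel_epi (CohBC.bc0 f g f' g' w (M j)), ← Category.assoc, ← Category.assoc,
        ← bc0_natural f g f' g' w (Sigma.ι M j), Category.assoc, Category.assoc, hab]
    have e1 : 𝟙 ((pf f').obj ((pb g').obj (∐ M))) =
        ∑ j, (pf f').map ((pb g').map (π j)) ≫ (pf f').map ((pb g').map (Sigma.ι M j)) := by
      rw [← CategoryTheory.Functor.map_id, ← CategoryTheory.Functor.map_id, ← hid, Functor.map_sum,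
        Functor.map_sum]
      simp only [Functor.map_comp]
    rw [← Category.id_comp a, ← Category.id_comp b]
    erw [e1]
    rw [Preadditive.sum_comp, Preadditive.sum_comp]
    refine Finset.sum_congr rfl fun j _ => ?_
    simp only [Category.assoc, hj]
  have hle : ∀ z : X', g' z ∈ U := fun z => by
    show f (g' z) ∈ W
    rw [← Scheme.Hom.comp_apply, w, Scheme.Hom.comp_apply]
    exact hW.ge (show f' z ∈ (⊤ : S'.Opens) from trivial)
  haveI hiso : IsIso ((pb g').map φ) := by
    refine isIso_of_locally _ fun z => ⟨⊤, trivial, fun V _ => ?_⟩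
    exact isIso_app_of_isIso_restrict (isIso_pullback_restrict g' hφ) (fun y _ => hle y)
  haveI : Epi (CohBC.bc0 f g f' g' w (∐ fun _ : Fin n => freeOn U) ≫ (pf f').map ((pb g').map φ)) := epi_comp _ _
  rw [← bc0_natural f g f' g' w φ] at this
  exact epi_of_epi ((pb g).map ((pf f).map φ)) _

end Groth.Agent.H54.Seesaw.FreeEpi
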