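import Groth.Agent.Lib.TensorMod.LocFree
import Groth.Agent.Lib.TensorMod.TensorInv
import Groth.Agent.Lib.Exchange.NearFibre

/-!
# The rank of a locally free module, seen on the base of an open closed surjective map
-/

set_option autoImplicit false
set_option linter.style.haveILetI false
universe u

open CategoryTheory CategoryTheory.Limits AlgebraicGeometry TopologicalSpace
open Groth.Agent.Lib

namespace Groth.Agent.H54.Seesaw.Fun

variable {X S : Scheme.{u}} {E : X.Modules}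

/-- Free charts through a point have the same rank. -/
theorem rank_unique {U U' : X.Opens} {x : X} (hx : x ∈ U) (hx' : x ∈ U') {n n' : ℕ}
    (i : E.restrict U.ι ≅ FlatMod.freeMod (↑U) n) (i' : E.restrict U'.ι ≅ FlatMod.freeMod (↑U') n') : n = n' := by
  obtain ⟨a⟩ := TensorMod.LocFree.exists_restrict_iso_freeMod (inf_le_left : U ⊓ U' ≤ U) i
  obtain ⟨b⟩ := TensorMod.LocFree.exists_restrict_iso_freeMod (inf_le_right : U ⊓ U' ≤ U') i'
  exact TensorMod.TensorInv.freeMod_rank_eq (X := ((U ⊓ U' : X.Opens) : Scheme.{u})) ⟨x, hx, hx'⟩ (a.symm ≪≫ b)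

/-- The rank function of a finite locally free module. -/
theorem exists_rankFn (hE : FlatMod.IsFinLocFree E) :
    ∃ ρ : X → ℕ, IsLocallyConstant ρ ∧
      ∀ (U : X.Opens) (n : ℕ), Nonempty (E.restrict U.ι ≅ FlatMod.freeMod (↑U) n) → ∀ x ∈ U, ρ x = n := by
  choose U n hx hi using hE
  refine ⟨n, ?_, fun U' n' ⟨i'⟩ x hx' => rank_unique (hx x) hx' (hi x).some i'⟩
  rw [IsLocallyConstant.iff_exists_open]
  exact fun x => ⟨U x, (U x).2, hx x, fun y hy => rank_unique (hx y) hy (hi y).some (hi x).some⟩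

/-- A locally constant function on the base picking one of the ranks on each fibre. -/
theorem exists_baseRank (f : X ⟶ S) [Surjective f] (ho : IsOpenMap f) (hc : IsClosedMap f) (ρ : X → ℕ)
    (hρ : IsLocallyConstant ρ) :
    ∃ r : S → ℕ, IsLocallyConstant r ∧ ∀ s, ∃ x, f x = s ∧ ρ x = r s := by
  classical
  have hex : ∀ s, ∃ n, s ∈ f '' (ρ ⁻¹' {n}) := fun s => by
    obtain ⟨x, hx⟩ := f.surjective s
    exact ⟨ρ x, x, rfl, hx⟩
  refine ⟨fun s => Nat.find (hex s), ?_, fun s => ?_⟩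
  · refine IsLocallyConstant.iff_exists_open _ |>.2 fun s => ?_
    let n := Nat.find (hex s)
    refine ⟨f '' (ρ ⁻¹' {n}) ∩ ⋂ m ∈ Set.Iio n, (f '' (ρ ⁻¹' {m}))ᶜ,
      (ho _ (hρ.isOpen_fiber n)).inter ((Set.finite_Iio n).isOpen_biInter fun m _ =>
        (hc _ (hρ.isClosed_fiber m)).isOpen_compl),
      ⟨Nat.find_spec (hex s), Set.mem_iInter₂.2 fun m hm => Nat.find_min (hex s) hm⟩, ?_⟩
    rintro y ⟨hy, hy'⟩
    exact (Nat.find_eq_iff (hex y)).2 ⟨hy, fun m hm => Set.mem_iInter₂.1 hy' m hm⟩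
  · obtain ⟨x, hx, hxs⟩ := Nat.find_spec (hex s)
    exact ⟨x, hxs, hx⟩

end Groth.Agent.H54.Seesaw.Fun
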