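import Groth.Agent.Lib.GrassGen.Frames
import Groth.Agent.Lib.Pinch.FrameSpread
import Groth.Agent.Lib.TensorMod.LocIso
import Mathlib.AlgebraicGeometry.Morphisms.FinitePresentation

/-!
# The locus over which the counit of the direct image is an isomorphism
-/

set_option autoImplicit false
set_option linter.style.haveILetI false
universe u

open CategoryTheory CategoryTheory.Limits AlgebraicGeometry Opposite TopologicalSpace Topology
open ZarCoh.FlatBC.PullbackSections (pbRes)

namespace Groth.Agent.H54.Seesaw.Locus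

open Groth.Agent.Lib Groth.Agent.Lib.Pinch.StalkFrame
open Groth.Agent.Lib.TensorMod.Dual (rs rf rs_rs rs_self rs_smul)
open Groth.Agent.Lib.GrassGen.Frames (At at_res at_comb_iff pbRes_comb)

noncomputable section

variable {X Y : Scheme.{u}} {G : X.Modules} {m n : ℕ} {U B : X.Opens}

/-- Germs forming a basis at a point have as many members as a frame there. -/
theorem card_eq {e : Fin m → Γ(G, B)} (he : IsFrame G B e) {y : Fin n → Γ(G, U)} {x : X} (hx : x ∈ U)
    (hxB : x ∈ B) (h : At y x hx) : n = m := by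
  let φ : (Fin n → X.presheaf.stalk x) →ₗ[X.presheaf.stalk x] G.presheaf.stalk x :=
    Fintype.linearCombination (X.presheaf.stalk x) fun i => G.presheaf.germ U x hx (y i)
  let ψ : (Fin m → X.presheaf.stalk x) →ₗ[X.presheaf.stalk x] G.presheaf.stalk x :=
    Fintype.linearCombination (X.presheaf.stalk x) fun i => G.presheaf.germ B x hxB (e i)
  let e' := (LinearEquiv.ofBijective φ h).trans (LinearEquiv.ofBijective ψ (he x hxB)).symm
  have := e'.finrank_eq
  rwa [Module.finrank_fin_fun, Module.finrank_fin_fun] at this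

/-- On an open with a frame, the frame locus of sections is the locus of a function. -/
theorem exists_basicOpen {e : Fin m → Γ(G, B)} (he : IsFrame G B e) (y : Fin n → Γ(G, U)) (hB : B ≤ U) :
    ∃ a : Γ(X, B), ∀ (z : X) (hz : z ∈ B), At y z (hB hz) ↔ z ∈ X.basicOpen a := by
  by_cases hmn : n = m
  · subst hmn
    choose C hC using fun k => comb_surjective he le_rfl (rs G hB (y k))
    refine ⟨(Matrix.of C).det, fun z hz => ?_⟩
    rw [← at_res y hB hz, ← funext hC]
    exact (at_comb_iff he le_rfl (Matrix.of C) hz).trans (X.mem_basicOpen _ z hz).symm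
  · refine ⟨0, fun z hz => ⟨fun h => absurd (card_eq he (hB hz) hz h) hmn, fun h => ?_⟩⟩
    rw [Scheme.basicOpen_zero] at h
    exact absurd h (fun h => h)

/-- Pulled back sections form a frame at a point exactly when the sections do at its image. -/
theorem at_pbRes_iff (hG : FlatMod.IsFinLocFree G) (f : Y ⟶ X) (y : Fin n → Γ(G, U)) {V : Y.Opens}
    (hV : V ≤ f ⁻¹ᵁ U) {z : Y} (hz : z ∈ V) :
    At (fun k => pbRes f G hV (y k)) z hz ↔ At y (f z) (hV hz) := by
  obtain ⟨B₀, m, e₀, hzB, he₀⟩ := exists_isFrame hG (f z)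
  let B := B₀ ⊓ U
  let e : Fin m → Γ(G, B) := fun k => rs G inf_le_left (e₀ k)
  have he : IsFrame G B e := he₀.res inf_le_left
  have hW : V ⊓ f ⁻¹ᵁ B ≤ f ⁻¹ᵁ B := inf_le_right
  have hzW : z ∈ V ⊓ f ⁻¹ᵁ B := ⟨hz, hzB, hV hz⟩
  by_cases hmn : n = m
  · subst hmn
    choose C hC using fun k => comb_surjective he le_rfl (rs G (inf_le_right : B ≤ U) (y k))
    have hC' : ∀ k, rs ((Scheme.Modules.pullback f).obj G) inf_le_left (pbRes f G hV (y k)) =
        comb (fun l => pbRes f G hW (e l)) le_rfl (((Matrix.of C).map (f.appLE B _ hW)) k) := fun k => by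
      rw [rs_pbRes, ← pbRes_rs f G (inf_le_right : B ≤ U) hW (y k), ← hC k, pbRes_comb f e le_rfl (C k) hW]
      rfl
    rw [← at_res y (inf_le_right : B ≤ U) (show f z ∈ B from hzW.2), ← funext hC,
      ← at_res (fun k => pbRes f G hV (y k)) inf_le_left hzW, funext hC',
      at_comb_iff (he.pbRes f hW) le_rfl _ hzW]
    refine Iff.trans ?_ (at_comb_iff he le_rfl (Matrix.of C) hzW.2).symm
    have hdet : ((Matrix.of C).map (f.appLE B _ hW)).det = f.appLE B _ hW (Matrix.of C).det :=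
      (RingHom.map_det (f.appLE B _ hW).hom (Matrix.of C)).symm
    rw [hdet]
    have hg : Y.presheaf.germ _ z hzW (f.appLE B _ hW (Matrix.of C).det) =
        f.stalkMap z (X.presheaf.germ B (f z) hzW.2 (Matrix.of C).det) := by
      rw [Scheme.Hom.germ_stalkMap_apply, Scheme.Hom.appLE]
      exact TopCat.Presheaf.germ_res_apply _ _ _ hzW _
    rw [hg, isUnit_map_iff]
  · exact ⟨fun h => absurd (card_eq (he.pbRes f hW) hz hzW h) hmn,
      fun h => absurd (card_eq he (hV hz) hzW.2 h) hmn⟩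

section Counit

variable {Z : Scheme.{u}} (p : X ⟶ Z)

/-- The counit at the direct image. -/
abbrev eps (G : X.Modules) :
    (Scheme.Modules.pullback p).obj ((Scheme.Modules.pushforward p).obj G) ⟶ G :=
  (Scheme.Modules.pullbackPushforwardAdjunction p).counit.app G

theorem eps_pbRes {W : Z.Opens} (s : Γ((Scheme.Modules.pushforward p).obj G, W)) :
    (eps p G).app (p ⁻¹ᵁ W) (pbRes p ((Scheme.Modules.pushforward p).obj G) le_rfl s) =
      (show Γ(G, p ⁻¹ᵁ W) from s) := by
  refine (congrArg ((eps p G).app (p ⁻¹ᵁ W)) (rs_self _ _ _)).trans ?_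
  exact congrArg (fun φ : (Scheme.Modules.pushforward p).obj G ⟶ (Scheme.Modules.pushforward p).obj G => φ.app W s)
    ((Scheme.Modules.pullbackPushforwardAdjunction p).right_triangle_components G)

/-- The points where the counit is an isomorphism on stalks. -/
def isoSet (G : X.Modules) : Set X :=
  {x | Function.Bijective (Modules.StalkModule.stalkMapₗ (eps p G) x)}

theorem mem_isoSet_iff {W : Z.Opens} {s : Fin n → Γ((Scheme.Modules.pushforward p).obj G, W)}
    (hs : IsFrame ((Scheme.Modules.pushforward p).obj G) W s) {x : X} (hx : x ∈ p ⁻¹ᵁ W) :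
    x ∈ isoSet p G ↔ At (fun k => (show Γ(G, p ⁻¹ᵁ W) from s k)) x hx := by
  have he := hs.pbRes p (le_refl (p ⁻¹ᵁ W))
  have h := germ_map_comb (e := fun k => pbRes p _ (le_refl (p ⁻¹ᵁ W)) (s k)) (eps p G) hx
  simp only [eps_pbRes] at h
  unfold At
  rw [funext h]
  exact (Function.Bijective.of_comp_iff _ (he x hx)).symm

variable (hG : FlatMod.IsFinLocFree G)
  (hN : ∀ z, ∃ (W : Z.Opens) (n : ℕ) (s : Fin n → Γ((Scheme.Modules.pushforward p).obj G, W)),
    z ∈ W ∧ IsFrame ((Scheme.Modules.pushforward p).obj G) W s)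

include hG hN

theorem exists_nhd (B₀ : X.Opens) (x : X) (hx : x ∈ B₀) :
    ∃ (B : X.affineOpens) (a : Γ(X, B.1)), x ∈ B.1 ∧ B.1 ≤ B₀ ∧
      (B.1 : Set X) ∩ isoSet p G = (X.basicOpen a : Set X) := by
  obtain ⟨W, n, s, hzW, hs⟩ := hN (p x)
  obtain ⟨B₁, m, e, hxB₁, he⟩ := exists_isFrame hG x
  obtain ⟨B, hB, hxB, hle⟩ := exists_isAffineOpen_mem_and_subset (U := B₀ ⊓ (B₁ ⊓ p ⁻¹ᵁ W)) (x := x)
    ⟨hx, hxB₁, hzW⟩
  have hB₁ : B ≤ B₁ := fun z hz => (hle hz).2.1
  have hBW : B ≤ p ⁻¹ᵁ W := fun z hz => (hle hz).2.2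
  obtain ⟨a, ha⟩ := exists_basicOpen (he.res hB₁) (fun k => (show Γ(G, p ⁻¹ᵁ W) from s k)) hBW
  refine ⟨⟨B, hB⟩, a, hxB, fun z hz => (hle hz).1, Set.ext fun z => ?_⟩
  constructor
  · rintro ⟨hz, hA⟩
    exact (ha z hz).1 ((mem_isoSet_iff p hs (hBW hz)).1 hA)
  · intro hz
    have hzB : z ∈ B := X.basicOpen_le a hz
    exact ⟨hzB, (mem_isoSet_iff p hs (hBW hzB)).2 ((ha z hzB).2 hz)⟩

theorem isOpen_isoSet : IsOpen (isoSet p G) := by
  refine isOpen_iff_forall_mem_open.2 fun x hx => ?_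
  obtain ⟨B, a, hxB, -, h⟩ := exists_nhd p hG hN ⊤ x trivial
  exact ⟨X.basicOpen a, fun z hz => (h.ge hz).2, (X.basicOpen a).2, h.le ⟨hxB, hx⟩⟩

theorem isLocallyConstructible_compl : IsLocallyConstructible (isoSet p G)ᶜ := fun x => by
  obtain ⟨B, a, hxB, -, h⟩ := exists_nhd p hG hN ⊤ x trivial
  refine ⟨B.1, B.1.2.mem_nhds hxB, B.1.2, ?_⟩
  haveI : IsAffine (B.1 : Scheme.{u}) := B.2
  let A : Set ↥(B.1 : Scheme.{u}) := B.1.ι ⁻¹' isoSet p G
  have hA : A = B.1.ι ⁻¹' (X.basicOpen a : Set X) := by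
    ext z
    exact ⟨fun hz => h.le ⟨z.2, hz⟩, fun hz => (h.ge hz).2⟩
  have hc : IsCompact A := by
    rw [hA]
    refine B.1.ι.isOpenEmbedding.isInducing.isCompact_preimage' (B.2.basicOpen a).isCompact ?_
    rw [Scheme.Opens.range_ι]
    exact X.basicOpen_le a
  show IsConstructible (A)ᶜ
  exact (hc.isConstructible (by rw [hA]; exact (X.basicOpen a).2.preimage B.1.ι.continuous)).compl

variable [IsProper p] [LocallyOfFinitePresentation p]

/-- The points over which the counit is an isomorphism. -/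
def baseLocus : Z.Opens :=
  ⟨(p '' (isoSet p G)ᶜ)ᶜ, (p.isClosedMap _ (isOpen_isoSet p hG hN).isClosed_compl).isOpen_compl⟩

theorem mem_baseLocus_iff (z : Z) : z ∈ baseLocus p hG hN ↔ ∀ x, p x = z → x ∈ isoSet p G := by
  constructor
  · intro h x hx
    by_contra hA
    exact h ⟨x, hA, hx⟩
  · rintro h ⟨x, hA, hx⟩
    exact hA (h x hx)

theorem quasiCompact_baseLocus : QuasiCompact (baseLocus p hG hN).ι := by
  refine quasiCompact_iff_forall_isAffineOpen.2 fun V hV => ?_
  haveI : IsAffine (V : Scheme.{u}) := hV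
  have hlc : IsLocallyConstructible (p '' (isoSet p G)ᶜ) :=
    p.isLocallyConstructible_image (isLocallyConstructible_compl p hG hN)
  have hcons : IsConstructible ((V.ι ⁻¹' (p '' (isoSet p G)ᶜ))ᶜ) :=
    (hlc.preimage_of_isOpenEmbedding V.ι.isOpenEmbedding).isConstructible.compl
  haveI : Nonempty (V : Scheme.{u}).affineOpens := ⟨⟨⊤, isAffineOpen_top _⟩⟩
  have hc : IsCompact ((V.ι ⁻¹' (p '' (isoSet p G)ᶜ))ᶜ) := by
    refine IsConstructible.induction_of_isTopologicalBasis (P := fun t _ => IsCompact t)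
      (fun i : (V : Scheme.{u}).affineOpens => (i.1 : Set ↥(V : Scheme.{u})))
      (Set.image_eq_range _ _ ▸ (V : Scheme.{u}).isBasis_affineOpens) (fun i => i.2.isCompact)
      (fun i s hs => i.2.isCompact.diff (isOpen_biUnion fun j _ => j.1.2))
      (fun s hs t ht hs' ht' => hs'.union ht') _ hcons
  refine (IsInducing.isCompact_iff (baseLocus p hG hN).ι.isOpenEmbedding.isInducing).2 ?_
  convert hc.image V.ι.continuous using 1
  ext z
  constructor
  · rintro ⟨w, hw, rfl⟩
    exact ⟨⟨w.1, hw⟩, w.2, rfl⟩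
  · rintro ⟨v, hv, rfl⟩
    exact ⟨⟨V.ι v, hv⟩, v.2, rfl⟩

end Counit

end

end Groth.Agent.H54.Seesaw.Locus
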