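import Groth.Agent.H54.RankLocus.Global
import Groth.Agent.H54.Seesaw.FreeEpi
import Groth.Agent.H54.Seesaw.Locus
import Groth.Agent.H54.Seesaw.Fun
import Groth.Agent.Lib.GrassGen.Chart
import Groth.Agent.H26.FreeCrit
import Groth.Agent.Lib.TensorMod.FPConv

/-!
# The locus where a locally free module comes from the base
-/

set_option autoImplicit false
set_option linter.style.haveILetI false
set_option maxHeartbeats 1000000
universe u

open CategoryTheory CategoryTheory.Limits AlgebraicGeometry TopologicalSpace Opposite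
open ZarCoh.FlatBC.PullbackSections (pbRes)
open Groth.Agent.Lib Groth.Agent.Lib.Pinch.StalkFrame Groth.Agent.Lib.ExchangeFP29

namespace Groth.Agent.H54.Seesaw.Main

noncomputable section

/-- The open sets of a one-point space. -/
theorem opens_spec_field {K : CommRingCat.{u}} [Subsingleton (Spec K)] (U : (Spec K).Opens) :
    U = ⊥ ∨ U = ⊤ := by
  rcases (U : Set (Spec K)).eq_empty_or_nonempty with h | ⟨z, hz⟩
  · exact Or.inl (TopologicalSpace.Opens.ext h)
  · exact Or.inr (top_unique fun w _ => Subsingleton.elim z w ▸ hz)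

/-- Where a module has surjective base change and a free fibre, the counit is an isomorphism along
the fibre. -/
theorem mem_isoSet {X₁ Z₁ : Scheme.{u}} (p : X₁ ⟶ Z₁) {G : X₁.Modules} (hG : FlatMod.IsFinLocFree G)
    {n : ℕ} {W : Z₁.Opens} {s : Fin n → Γ((Scheme.Modules.pushforward p).obj G, W)}
    (hs : IsFrame ((Scheme.Modules.pushforward p).obj G) W s)
    {K : Type u} [Field K] {X' : Scheme.{u}} (σ : Spec (CommRingCat.of K) ⟶ Z₁) (q : X' ⟶ Spec (CommRingCat.of K))
    (g : X' ⟶ X₁) (sq : IsPullback g q p σ) (hσ : ∀ z, σ z ∈ W)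
    (hsurj : Epi (CohBC.bc0 p σ q g sq.w G))
    (j : (Scheme.Modules.pullback g).obj G ≅ FlatMod.freeMod X' n) (z : X') :
    g z ∈ Locus.isoSet p G := by
  have hle : (⊤ : X'.Opens) ≤ g ⁻¹ᵁ (p ⁻¹ᵁ W) := fun w _ => by
    show p (g w) ∈ W
    rw [← Scheme.Hom.comp_apply, sq.w, Scheme.Hom.comp_apply]
    exact hσ _
  rw [Locus.mem_isoSet_iff p hs (x := g z) (hle (Set.mem_univ z))]
  let G' := (Scheme.Modules.pullback g).obj G
  let y : Fin n → Γ(G, p ⁻¹ᵁ W) := fun k => s k
  let y' : Fin n → Γ(G', ⊤) := fun k => pbRes g G hle (y k)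
  refine (Locus.at_pbRes_iff hG g y hle (z := z) trivial).1 ?_
  have hWt : (⊤ : (Spec (CommRingCat.of K)).Opens) ≤ σ ⁻¹ᵁ W := fun w _ => hσ w
  haveI := hsurj
  have hbc : ∀ k, (CohBC.bc0 p σ q g sq.w G).app ⊤ (pbRes σ _ hWt (s k)) = y' k := fun k => by
    refine (CohDelta.BC.Transpose.transpose_pbRes σ (CohBC.bc0Adj p σ q g sq.w G) hWt (s k)).trans ?_
    rw [Cube.FibreGen.bc0Adj_app p σ q g sq.w G W (Cube.FibreGen.preimage_le p σ q g sq.w W)]
    exact TensorMod.Dual.rs_rs G' _ _ _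
  have hcomb : Function.Surjective fun c : Fin n → Γ(X', ⊤) => comb y' le_rfl c := fun w => by
    obtain ⟨v, hv⟩ := Main.surjective_top_of_epi (CohBC.bc0 p σ q g sq.w G)
      (show Γ((Scheme.Modules.pushforward q).obj G', ⊤) from w)
    obtain ⟨c, hc⟩ := comb_surjective (hs.pbRes σ hWt) (le_refl ⊤) v
    refine ⟨fun k => q.appTop (c k), Eq.trans ?_ hv⟩
    show comb y' le_rfl (fun k => q.appTop (c k)) = _
    rw [← hc]
    simp only [comb]
    rw [map_sum]
    refine Finset.sum_congr rfl fun k _ => ?_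
    rw [Scheme.Modules.Hom.app_smul, TensorMod.Dual.rs_self, TensorMod.Dual.rs_self, hbc k]
    rfl
  obtain ⟨e, he⟩ : ∃ e : Fin n → Γ(G', ⊤), IsFrame G' ⊤ e :=
    ⟨_, (Groth.Agent.Lib.GrassGen.isFrame_gen X').map_iso j.symm⟩
  choose C hC using fun k => comb_surjective he le_rfl (y' k)
  choose D hD using fun k => hcomb (e k)
  have hCD : Matrix.of D * Matrix.of C = (1 : Matrix (Fin n) (Fin n) Γ(X', ⊤)) := by
    funext k
    refine comb_injective he le_rfl ?_
    have h1 : ∀ d : Fin n → Γ(X', ⊤), comb e le_rfl (fun l => ∑ k', d k' * C k' l) = comb y' le_rfl d := by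
      intro d
      simp only [comb, TensorMod.Dual.rs_self, Finset.sum_smul, ← hC, Finset.smul_sum, smul_smul]
      exact Finset.sum_comm
    refine (h1 (D k)).trans ((hD k).trans ?_)
    classical
    simp only [comb, TensorMod.Dual.rs_self, Matrix.one_apply, ite_smul, one_smul, zero_smul]
    rw [Finset.sum_ite_eq, if_pos (Finset.mem_univ k)]
  have e2 : y' = fun k => comb e le_rfl (C k) := funext fun k => (hC k).symm
  show GrassGen.Frames.At y' z _
  rw [e2]
  exact (GrassGen.Frames.at_comb_iff he le_rfl (Matrix.of C) trivial).2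
    ((Matrix.isUnit_det_of_left_inverse hCD).map _)

variable {X S : Scheme.{u}} (f : X ⟶ S)
  (hO : ∀ (T : Scheme.{u}) (g : T ⟶ S) (U : T.Opens), IsIso ((pullback.snd f g).app U))

include hO

theorem surjective : Surjective f := by
  refine ⟨fun s => ?_⟩
  haveI := hO (Spec (S.residueField s)) (S.fromSpecResidueField s) ⊤
  obtain ⟨z⟩ : Nonempty (f.fiber s) := by
    by_contra hne
    rw [not_nonempty_iff] at hne
    haveI : Subsingleton Γ(f.fiber s, ⊤) := by
      rw [show (⊤ : (f.fiber s).Opens) = ⊥ from TopologicalSpace.Opens.ext (Set.eq_empty_of_isEmpty _)]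
      infer_instance
    haveI : Subsingleton Γ(pullback f (S.fromSpecResidueField s),
        pullback.snd f (S.fromSpecResidueField s) ⁻¹ᵁ ⊤) := ‹Subsingleton Γ(f.fiber s, ⊤)›
    haveI : Subsingleton Γ(Spec (S.residueField s), ⊤) :=
      (ConcreteCategory.bijective_of_isIso ((pullback.snd f (S.fromSpecResidueField s)).app ⊤)).1.subsingleton
    exact not_subsingleton (S.residueField s)
      (ConcreteCategory.bijective_of_isIso (Scheme.ΓSpecIso (S.residueField s)).inv).1.subsingleton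
  exact ⟨f.fiberι s z, show f.fiberι s z ∈ f ⁻¹' {s} from f.range_fiberι s ▸ Set.mem_range_self _⟩

theorem appTop_surjective {T : Scheme.{u}} (u : T ⟶ S) (t : T) :
    Function.Surjective ((pullback.snd f u).fiberToSpecResidueField t).appTop.hom := by
  have sq := (IsPullback.of_hasPullback (pullback.snd f u) (T.fromSpecResidueField t)).paste_horiz
    (IsPullback.of_hasPullback f u)
  haveI := hO _ (T.fromSpecResidueField t ≫ u) ⊤
  have h : (pullback.snd f u).fiberToSpecResidueField t =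
      sq.isoPullback.hom ≫ pullback.snd f (T.fromSpecResidueField t ≫ u) := sq.isoPullback_hom_snd.symm
  rw [h, Scheme.Hom.comp_appTop]
  haveI : IsIso (sq.isoPullback.hom.appTop) := inferInstanceAs (IsIso (sq.isoPullback.hom.app ⊤))
  exact (ConcreteCategory.bijective_of_isIso (sq.isoPullback.hom.appTop)).2.comp
    (ConcreteCategory.bijective_of_isIso ((pullback.snd f (T.fromSpecResidueField t ≫ u)).app ⊤)).2

variable [IsProper f] [Flat f] [LocallyOfFinitePresentation f] {E : X.Modules}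
  (hE : FlatMod.IsFinLocFree E)

include hE

/-- Where the module comes from the base the rank condition holds. -/
theorem cond_of_iso (ρ : X → ℕ)
    (hρ : ∀ (U : X.Opens) (n : ℕ), Nonempty (E.restrict U.ι ≅ FlatMod.freeMod (↑U) n) → ∀ x ∈ U, ρ x = n)
    (r : S → ℕ) (hr : ∀ s, ∃ x, f x = s ∧ ρ x = r s)
    {T : Scheme.{u}} (u : T ⟶ S) {M : T.Modules} (hM : FlatMod.IsFinLocFree M)
    (i : (Scheme.Modules.pullback (pullback.fst f u)).obj E ≅ (Scheme.Modules.pullback (pullback.snd f u)).obj M)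
    (t : T) :
    RankLocus.Chart.Cond f E (r (u t)) u t ∧
      ∃ U : T.Opens, t ∈ U ∧ Nonempty (M.restrict U.ι ≅ FlatMod.freeMod (↑U) (r (u t))) := by
  let g' := pullback.fst f u
  let f' := pullback.snd f u
  let G := (Scheme.Modules.pullback g').obj E
  haveI : IsProper f' := MorphismProperty.pullback_snd _ _ ‹_›
  haveI : LocallyOfFinitePresentation f' := MorphismProperty.pullback_snd _ _ ‹_›
  haveI : Flat f' := MorphismProperty.pullback_snd _ _ ‹_›
  have hfp : CohB1.IsFP E := TensorMod.FPConv.isFP_of_isFinLocFree hE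
  haveI := H26.FreeCrit.isQuasicoherent_of_isFP hfp
  have hfl : FlatMod.IsFlatOver f E := _root_.ZarCoh.Exchange.NearFibre.isFlatOver_of_isFinLocFree f hE
  have hGl : FlatMod.IsFinLocFree G := TensorMod.LocFree.isFinLocFree_pullback g' hE
  have hG : CohB1.IsFP G := TensorMod.FPConv.isFP_of_isFinLocFree hGl
  have hGfl : FlatMod.IsFlatOver f' G := _root_.ZarCoh.Exchange.NearFibre.isFlatOver_of_isFinLocFree f' hGl
  have hfree : ∀ (U : T.Opens) (n : ℕ), (M.restrict U.ι ≅ FlatMod.freeMod (↑U) n) →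
      Nonempty (G.restrict (f' ⁻¹ᵁ U).ι ≅ FlatMod.freeMod _ n) := fun U n a => by
    obtain ⟨b⟩ := TensorMod.LocFree.pullback_iso_of_restrict_iso f' a
    exact ⟨(Scheme.Modules.restrictFunctor (f' ⁻¹ᵁ U).ι).mapIso i ≪≫ b⟩
  have hs : ∀ y, Main.FibSurj f' G y := fun y => by
    obtain ⟨U, n, hyU, ⟨a⟩⟩ := hM y
    obtain ⟨b⟩ := hfree U n a
    refine Main.fibSurj_of_epi f' G y (FreeEpi.epi_bc0_of_free f' _ _ _ (f'.fiber_fac y) G opens_spec_field
      (appTop_surjective f hO u y) (W := U) (top_unique fun z _ => ?_) b)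
    show T.fromSpecResidueField y z ∈ U
    rwa [Scheme.fromSpecResidueField_apply]
  obtain ⟨U, n, htU, ⟨a⟩⟩ := hM t
  have hn : n = r (u t) := by
    obtain ⟨x, hx, hxr⟩ := hr (u t)
    obtain ⟨z, hz1, hz2⟩ := Scheme.Pullback.exists_preimage_pullback (f := f) (g := u) x t hx
    obtain ⟨U₁, m, hxU₁, ⟨c⟩⟩ := hE x
    rw [← hxr, hρ U₁ m ⟨c⟩ x hxU₁]
    obtain ⟨b⟩ := hfree U n a
    obtain ⟨d⟩ := TensorMod.LocFree.pullback_iso_of_restrict_iso g' c
    exact Fun.rank_unique (x := z) (show f' z ∈ U by rw [hz2]; exact htU)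
      (show g' z ∈ U₁ by rw [hz1]; exact hxU₁) b d
  refine ⟨⟨hs t, ?_⟩, U, htU, ⟨by rw [← hn]; exact a⟩⟩
  obtain ⟨V', hV', htV', -⟩ := exists_isAffineOpen_mem_and_subset (U := ⊤) (x := t) trivial
  haveI : IsAffine (V' : Scheme.{u}) := hV'
  obtain ⟨P, hP, he, -, hq⟩ := Main.exists_of_fibSurj f' G hG hGfl V' fun y _ => hs y
  obtain ⟨e⟩ := he 0
  obtain ⟨U', htU', ⟨j⟩⟩ := Main.exists_free_nhd f' G 0 hP e (hP.flat_Q_nonneg _ (by simp))
    (by simpa using hq) htV'
  obtain ⟨z⟩ := Main.nonempty_zeroIso f' G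
  haveI := TensorMod.LocIso.isIso_unit_of_isFinLocFree f' (hO T u) hM
  let k : M ≅ (Coh.Rpush f' 0).obj G :=
    asIso ((Scheme.Modules.pullbackPushforwardAdjunction f').unit.app M) ≪≫
      (Scheme.Modules.pushforward f').mapIso i.symm ≪≫ z.symm
  have e2 := Fun.rank_unique (E := M) htU htU' a ((Scheme.Modules.restrictFunctor U'.ι).mapIso k ≪≫ j)
  rw [FieldPoint.fiberRank_baseChange f E hfp hfl u g' f' (IsPullback.of_hasPullback f u) 0 t] at e2
  exact e2.symm.trans hn

theorem main :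
    ∃ (Z : Scheme.{u}) (ι : Z ⟶ S), IsImmersion ι ∧ LocallyOfFinitePresentation ι ∧ QuasiCompact ι ∧
      (∀ (T : Scheme.{u}) (u : T ⟶ S), (∃ u' : T ⟶ Z, u' ≫ ι = u) ↔
        ∃ M : T.Modules, FlatMod.IsFinLocFree M ∧
          Nonempty ((Scheme.Modules.pullback (pullback.fst f u)).obj E ≅
            (Scheme.Modules.pullback (pullback.snd f u)).obj M)) := by
  haveI := surjective f hO
  have hfp : CohB1.IsFP E := TensorMod.FPConv.isFP_of_isFinLocFree hE
  haveI := H26.FreeCrit.isQuasicoherent_of_isFP hfp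
  have hfl : FlatMod.IsFlatOver f E := _root_.ZarCoh.Exchange.NearFibre.isFlatOver_of_isFinLocFree f hE
  obtain ⟨ρ, hρc, hρ⟩ := Fun.exists_rankFn hE
  obtain ⟨r, hrc, hr⟩ := Fun.exists_baseRank f f.isOpenMap f.isClosedMap ρ hρc
  obtain ⟨Z₁, ι₁, h1, h2, h3, huniv⟩ := RankLocus.Global.exists_immersion_var f E hfp hfl r hrc
  have hcond := (huniv Z₁ ι₁).1 ⟨𝟙 _, Category.id_comp _⟩
  let p := pullback.snd f ι₁
  let g₁ := pullback.fst f ι₁
  let G := (Scheme.Modules.pullback g₁).obj E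
  haveI : IsProper p := MorphismProperty.pullback_snd _ _ ‹_›
  haveI : LocallyOfFinitePresentation p := MorphismProperty.pullback_snd _ _ ‹_›
  haveI : Flat p := MorphismProperty.pullback_snd _ _ ‹_›
  have hGl : FlatMod.IsFinLocFree G := TensorMod.LocFree.isFinLocFree_pullback g₁ hE
  have hG : CohB1.IsFP G := TensorMod.FPConv.isFP_of_isFinLocFree hGl
  have hGfl : FlatMod.IsFlatOver p G := _root_.ZarCoh.Exchange.NearFibre.isFlatOver_of_isFinLocFree p hGl
  let N := (Scheme.Modules.pushforward p).obj G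
  have hframe : ∀ z, ∃ (W : Z₁.Opens) (s : Fin (r (ι₁ z)) → Γ(N, W)), z ∈ W ∧ IsFrame N W s := fun z => by
    obtain ⟨V', hV', hzV', -⟩ := exists_isAffineOpen_mem_and_subset (U := ⊤) (x := z) trivial
    haveI : IsAffine (V' : Scheme.{u}) := hV'
    obtain ⟨P, hP, he, -, hq⟩ := Main.exists_of_fibSurj p G hG hGfl V' fun y _ => (hcond y).1
    obtain ⟨e⟩ := he 0
    obtain ⟨W, hzW, ⟨i⟩⟩ := Main.exists_free_nhd p G 0 hP e (hP.flat_Q_nonneg _ (by simp))
      (by simpa using hq) hzV'
    rw [FieldPoint.fiberRank_baseChange f E hfp hfl ι₁ g₁ p (IsPullback.of_hasPullback f ι₁) 0 z,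
      (hcond z).2] at i
    obtain ⟨z₀⟩ := Main.nonempty_zeroIso p G
    obtain ⟨s, hs⟩ := exists_isFrame_of_iso ((Scheme.Modules.restrictFunctor W.ι).mapIso z₀.symm ≪≫ i)
    exact ⟨W, s, hzW, hs⟩
  have hN : ∀ z, ∃ (W : Z₁.Opens) (n : ℕ) (s : Fin n → Γ(N, W)), z ∈ W ∧ IsFrame N W s := fun z => by
    obtain ⟨W, s, h⟩ := hframe z
    exact ⟨W, _, s, h⟩
  let V := Locus.baseLocus p hGl hN
  haveI : QuasiCompact V.ι := Locus.quasiCompact_baseLocus p hGl hN
  refine ⟨V, V.ι ≫ ι₁, inferInstance, inferInstance, inferInstance, fun T u => ⟨?_, ?_⟩⟩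
  · rintro ⟨u', rfl⟩
    let v := u' ≫ V.ι
    have e : u' ≫ V.ι ≫ ι₁ = v ≫ ι₁ := (Category.assoc _ _ _).symm
    rw [e]
    let g := pullback.map f (v ≫ ι₁) f ι₁ (𝟙 X) v (𝟙 S) (by simp) (by simp)
    have hg1 : g ≫ g₁ = pullback.fst f (v ≫ ι₁) := (pullback.lift_fst _ _ _).trans (Category.comp_id _)
    have hg2 : g ≫ p = pullback.snd f (v ≫ ι₁) ≫ v := pullback.lift_snd _ _ _
    haveI : IsIso ((Scheme.Modules.pullback g).map (Locus.eps p G)) := by
      refine isIso_of_frames _ fun z => ?_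
      have hmem : p (g z) ∈ V := by
        rw [← Scheme.Hom.comp_apply, hg2]
        exact (u' ((pullback.snd f (v ≫ ι₁)) z)).2
      obtain ⟨W, n, s, hzW, hs⟩ := hN (p (g z))
      have hA : g z ∈ Locus.isoSet p G := (Locus.mem_baseLocus_iff p hGl hN _).1 hmem _ rfl
      let B : (pullback f ι₁).Opens := p ⁻¹ᵁ W ⊓ ⟨Locus.isoSet p G, Locus.isOpen_isoSet p hGl hN⟩
      let e := fun k => pbRes p N (inf_le_left : B ≤ p ⁻¹ᵁ W) (s k)
      have he : IsFrame _ B e := hs.pbRes p _
      have he' : IsFrame G B fun k => (Locus.eps p G).app B (e k) := fun x hx => by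
        have h := germ_map_comb (e := e) (Locus.eps p G) hx
        rw [funext h]
        exact Function.Bijective.comp hx.2 (he x hx)
      refine ⟨g ⁻¹ᵁ B, n, fun k => pbRes g _ le_rfl (e k), ⟨hzW, hA⟩, he.pbRes g le_rfl, ?_⟩
      have h2 : (fun k => ((Scheme.Modules.pullback g).map (Locus.eps p G)).app (g ⁻¹ᵁ B) (pbRes g _ le_rfl (e k))) =
          fun k => pbRes g G le_rfl ((Locus.eps p G).app B (e k)) := funext fun k => by
        refine (congrArg (((Scheme.Modules.pullback g).map (Locus.eps p G)).app (g ⁻¹ᵁ B)) (TensorMod.Dual.rs_self _ _ _)).trans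
          (Eq.trans ?_ (TensorMod.Dual.rs_self _ _ _).symm)
        exact TensorMod.LocIso.unit_natural_app g (Locus.eps p G) (e k)
      rw [h2]
      exact he'.pbRes g le_rfl
    refine ⟨(Scheme.Modules.pullback v).obj N, TensorMod.LocFree.isFinLocFree_pullback v fun z => ?_, ⟨?_⟩⟩
    · obtain ⟨W, n, s, hzW, hs⟩ := hN z
      exact ⟨W, n, hzW, hs.iso_free⟩
    exact (Scheme.Modules.pullbackCongr hg1.symm).app E ≪≫ ((Scheme.Modules.pullbackComp g g₁).app E).symm ≪≫
      (asIso ((Scheme.Modules.pullback g).map (Locus.eps p G))).symm ≪≫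
      (Scheme.Modules.pullbackComp g p).app N ≪≫ (Scheme.Modules.pullbackCongr hg2).app N ≪≫
      ((Scheme.Modules.pullbackComp (pullback.snd f (v ≫ ι₁)) v).app N).symm
  · rintro ⟨M, hM, ⟨i⟩⟩
    obtain ⟨u₁, hu₁⟩ := (huniv T u).2 fun t => (cond_of_iso f hO hE ρ hρ r hr u hM i t).1
    have hV : Set.range u₁ ⊆ Set.range V.ι := by
      rintro _ ⟨t, rfl⟩
      rw [Scheme.Opens.range_ι]
      refine (Locus.mem_baseLocus_iff p hGl hN _).2 fun x hx => ?_
      obtain ⟨W, s, hzW, hs⟩ := hframe (u₁ t)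
      let τ := T.fromSpecResidueField t
      let X' := pullback (pullback.snd f u) τ
      let gT := pullback.map f u f ι₁ (𝟙 X) u₁ (𝟙 S) (by simp) (by simp [hu₁])
      have hgT1 : gT ≫ g₁ = pullback.fst f u := (pullback.lift_fst _ _ _).trans (Category.comp_id _)
      have hgT2 : gT ≫ p = pullback.snd f u ≫ u₁ := pullback.lift_snd _ _ _
      have sqT : IsPullback gT (pullback.snd f u) p u₁ := by
        refine IsPullback.of_right ?_ hgT2 (IsPullback.of_hasPullback f ι₁)
        rw [hgT1, hu₁]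
        exact IsPullback.of_hasPullback f u
      have sq := (IsPullback.of_hasPullback (pullback.snd f u) τ).paste_horiz sqT
      obtain ⟨z, hz1, hz2⟩ := Scheme.Pullback.exists_preimage_pullback (f := p) (g := τ ≫ u₁) x
        (IsLocalRing.closedPoint (T.residueField t))
        (hx.trans (congrArg u₁ (Scheme.fromSpecResidueField_apply t _)).symm)
      rw [← hz1]
      have hgp := IsPullback.of_hasPullback p (τ ≫ u₁)
      let e₀ := sq.isoIsPullback _ _ hgp
      obtain ⟨-, U, htU, ⟨a⟩⟩ := cond_of_iso f hO hE ρ hρ r hr u hM i t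
      have hr' : r (u t) = r (ι₁ (u₁ t)) :=
        congrArg r (congrArg (fun m : T ⟶ S => m t) hu₁).symm
      rw [hr'] at a
      have hτ : Set.range τ ⊆ Set.range U.ι := by
        rintro _ ⟨w, rfl⟩
        rw [Scheme.Opens.range_ι]
        show τ w ∈ U
        rw [Scheme.fromSpecResidueField_apply]
        exact htU
      let τU := IsOpenImmersion.lift U.ι τ hτ
      have hτU : τU ≫ U.ι = τ := IsOpenImmersion.lift_fac _ _ _
      let MK : (Scheme.Modules.pullback τ).obj M ≅ FlatMod.freeMod _ (r (ι₁ (u₁ t))) :=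
        (Scheme.Modules.pullbackCongr hτU.symm).app M ≪≫ ((Scheme.Modules.pullbackComp τU U.ι).app M).symm ≪≫
          (Scheme.Modules.pullback τU).mapIso
            (((Scheme.Modules.restrictFunctorIsoPullback U.ι).app M).symm ≪≫ a) ≪≫
          TensorMod.LocFree.pullbackFreeModIso τU _
      let g := pullback.fst p (τ ≫ u₁)
      let q := pullback.snd p (τ ≫ u₁)
      let w := e₀.inv ≫ pullback.fst (pullback.snd f u) τ
      have hw1 : w ≫ gT = g := (Category.assoc _ _ _).trans (sq.isoIsPullback_inv_fst _ _ hgp)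
      have hw2 : w ≫ pullback.snd f u = q ≫ τ := by
        rw [Category.assoc, pullback.condition, ← Category.assoc]
        exact congrArg (· ≫ τ) (sq.isoIsPullback_inv_snd _ _ hgp)
      have hw3 : g ≫ g₁ = w ≫ pullback.fst f u := by rw [← hw1, Category.assoc, hgT1]
      let j : (Scheme.Modules.pullback g).obj G ≅ FlatMod.freeMod _ (r (ι₁ (u₁ t))) :=
        (Scheme.Modules.pullbackComp g g₁).app E ≪≫ (Scheme.Modules.pullbackCongr hw3).app E ≪≫
          ((Scheme.Modules.pullbackComp w (pullback.fst f u)).app E).symm ≪≫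
          (Scheme.Modules.pullback w).mapIso i ≪≫
          (Scheme.Modules.pullbackComp w (pullback.snd f u)).app M ≪≫
          (Scheme.Modules.pullbackCongr hw2).app M ≪≫ ((Scheme.Modules.pullbackComp q τ).app M).symm ≪≫
          (Scheme.Modules.pullback q).mapIso MK ≪≫ TensorMod.LocFree.pullbackFreeModIso q _
      haveI := Main.isIso_bc0_of_fibSurj p G hG hGfl (τ ≫ u₁) g q hgp fun y => (hcond _).1
      refine mem_isoSet p hGl hs (K := T.residueField t) (τ ≫ u₁) q g hgp (fun y => ?_) inferInstance j z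
      show u₁ (τ y) ∈ W
      rw [Scheme.fromSpecResidueField_apply]
      exact hzW
    exact ⟨IsOpenImmersion.lift V.ι u₁ hV, by rw [IsOpenImmersion.lift_fac_assoc, hu₁]⟩

end

end Groth.Agent.H54.Seesaw.Main
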