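import Groth.Agent.H54.Seesaw.Main

/-!
# The points of the locus where a module comes from the base
-/

set_option autoImplicit false
universe u

open CategoryTheory CategoryTheory.Limits AlgebraicGeometry TopologicalSpace Opposite
open Groth.Agent.Lib

namespace Groth.Agent.H54.Seesaw.Range

noncomputable section

variable {X S Z : Scheme.{u}} (f : X ⟶ S) (E : X.Modules) (ι : Z ⟶ S)
  (h : ∀ (T : Scheme.{u}) (u : T ⟶ S), (∃ u' : T ⟶ Z, u' ≫ ι = u) ↔
    ∃ M : T.Modules, FlatMod.IsFinLocFree M ∧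
      Nonempty ((Scheme.Modules.pullback (pullback.fst f u)).obj E ≅
        (Scheme.Modules.pullback (pullback.snd f u)).obj M))

include h

/-- A point whose fibre restriction is free is in the locus. -/
theorem mem_range_of_fibre_free {s : S} {n : ℕ}
    (i : (Scheme.Modules.pullback (f.fiberι s)).obj E ≅ FlatMod.freeMod (f.fiber s) n) :
    s ∈ Set.range ι := by
  obtain ⟨u', hu'⟩ := (h _ (S.fromSpecResidueField s)).2 ⟨FlatMod.freeMod _ n,
    TensorMod.LocFree.of_rank (TensorMod.LocFree.isFinLocFree_freeMod _ n), ⟨i ≪≫ (TensorMod.LocFree.pullbackFreeModIso _ n).symm⟩⟩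
  refine ⟨u' (IsLocalRing.closedPoint (S.residueField s)), ?_⟩
  rw [← Scheme.Hom.comp_apply, hu', Scheme.fromSpecResidueField_apply]

/-- At a point of the locus the fibre restriction is free. -/
theorem fibre_free_of_mem_range [IsPreimmersion ι] {s : S} (hs : s ∈ Set.range ι) :
    ∃ n : ℕ, Nonempty ((Scheme.Modules.pullback (f.fiberι s)).obj E ≅ FlatMod.freeMod (f.fiber s) n) := by
  obtain ⟨z, rfl⟩ := hs
  haveI : IsIso (ι.residueFieldMap z) := by
    rw [ConcreteCategory.isIso_iff_bijective]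
    refine ⟨RingHom.injective _, fun a => ?_⟩
    obtain ⟨b, rfl⟩ := IsLocalRing.residue_surjective a
    obtain ⟨c, rfl⟩ := ι.stalkMap_surjective z b
    exact ⟨S.residue _ c, congr($(Scheme.residue_residueFieldMap ι z) c)⟩
  obtain ⟨M, hM, ⟨i⟩⟩ := (h _ (S.fromSpecResidueField (ι z))).1
    ⟨inv (Spec.map (ι.residueFieldMap z)) ≫ Z.fromSpecResidueField z, by
      rw [Category.assoc, IsIso.inv_comp_eq]
      exact (Scheme.Hom.SpecMap_residueFieldMap_fromSpecResidueField ι z).symm⟩
  let q : Spec (S.residueField (ι z)) := IsLocalRing.closedPoint (S.residueField (ι z))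
  obtain ⟨V, n, hqV, ⟨a⟩⟩ := hM q
  obtain rfl : V = ⊤ := TopologicalSpace.Opens.ext (Set.eq_univ_iff_forall.2 fun y => by
    rw [Subsingleton.elim y q]; exact hqV)
  haveI : IsIso (⊤ : (Spec (S.residueField (ι z))).Opens).ι := by rw [← Scheme.topIso_hom]; infer_instance
  let a' : M ≅ FlatMod.freeMod _ n :=
    (Scheme.Modules.pullbackId (X := Spec (S.residueField (ι z)))).symm.app M ≪≫
      (Scheme.Modules.pullbackCongr (IsIso.inv_hom_id (⊤ : (Spec (S.residueField (ι z))).Opens).ι).symm).app M ≪≫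
      ((Scheme.Modules.pullbackComp _ _).app M).symm ≪≫
      (Scheme.Modules.pullback _).mapIso
        (((Scheme.Modules.restrictFunctorIsoPullback (⊤ : (Spec (S.residueField (ι z))).Opens).ι).app M).symm ≪≫ a) ≪≫
      TensorMod.LocFree.pullbackFreeModIso _ n
  exact ⟨n, ⟨i ≪≫ (Scheme.Modules.pullback _).mapIso a' ≪≫ TensorMod.LocFree.pullbackFreeModIso _ n⟩⟩

/-- Free fibres over a reduced base: the module comes from the base. -/
theorem exists_of_free_fibres [IsImmersion ι] [IsReduced S]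
    (hfib : ∀ s : S, ∃ n : ℕ, Nonempty ((Scheme.Modules.pullback (f.fiberι s)).obj E ≅ FlatMod.freeMod (f.fiber s) n)) :
    ∃ N : S.Modules, FlatMod.IsFinLocFree N ∧ Nonempty ((Scheme.Modules.pullback f).obj N ≅ E) := by
  haveI : Surjective ι := ⟨fun s => by
    obtain ⟨n, ⟨i⟩⟩ := hfib s
    exact mem_range_of_fibre_free f E ι h i⟩
  haveI : IsClosedImmersion ι :=
    IsClosedImmersion.of_isPreimmersion ι (by rw [ι.surjective.range_eq]; exact isClosed_univ)
  haveI : IsIso ι := isIso_of_isClosedImmersion_of_surjective ι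
  obtain ⟨M, hM, ⟨i⟩⟩ := (h S (𝟙 S)).1 ⟨inv ι, IsIso.inv_hom_id _⟩
  have e : inv (pullback.fst f (𝟙 S)) ≫ pullback.snd f (𝟙 S) = f := by
    rw [IsIso.inv_comp_eq, pullback.condition, Category.comp_id]
  exact ⟨M, hM, ⟨(Scheme.Modules.pullbackCongr e.symm).app M ≪≫
    ((Scheme.Modules.pullbackComp _ _).app M).symm ≪≫ (Scheme.Modules.pullback _).mapIso i.symm ≪≫
    (Scheme.Modules.pullbackComp _ _).app E ≪≫
    (Scheme.Modules.pullbackCongr (IsIso.inv_hom_id (pullback.fst f (𝟙 S)))).app E ≪≫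
    (Scheme.Modules.pullbackId (X := X)).app E⟩⟩

end

end Groth.Agent.H54.Seesaw.Range
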